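import Mathlib
import Groth.Prelude
import Groth.Agent.Lib.Helper15.AlgSpEtCl
import Groth.Agent.Lib.Helper15.AlgSpPoints
import Groth.Agent.Lib.Helper15.AlgSpFibre
import Groth.Agent.Lib.Helper15.AlgSpTop

/-!
# The small etale site of an algebraic space inside the big etale site of spaces (helper19)
-/

set_option autoImplicit false
set_option backward.isDefEq.respectTransparency false

universe u

open CategoryTheory CategoryTheory.Limits AlgebraicGeometry Opposite

namespace Groth.Agent.Helper19.EtSite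

open AlgSp Groth.Agent.Helper15

variable {S : Scheme.{u}}

/-- Covering sieves of the big etale site of spaces are refined, on every scheme, by etale coverings by
schemes. -/
theorem exists_etale_refinement {Z : Space S} {R : Sieve Z}
    (hR : (spacesPre S IsEtaleMor).Saturate Z R) :
    ∀ (U : Over S) (f : (ofScheme S).obj U ⟶ Z) (x : ↥U.left),
      ∃ (V : Over S) (k : V ⟶ U), Etale k.left ∧ x ∈ Set.range k.left ∧
        R ((ofScheme S).map k ≫ f) := by
  induction hR with
  | of Z P hP =>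
    intro U f x
    obtain ⟨hPe, hPs⟩ := hP
    obtain ⟨Y, g, hg, y, hy⟩ := hPs (Points.ofPt f.hom x)
    have hge : IsEtaleMor g.hom := hPe g hg
    have hU : IsAlgSpace ((yon S).obj U) := IsAlgSpace.yon_obj U
    -- the fibre product
    have sq : IsPullback (pullback.fst f.hom g.hom) (pullback.snd f.hom g.hom) f.hom g.hom :=
      IsPullback.of_hasPullback _ _
    have hPb : IsAlgSpace (pullback f.hom g.hom) :=
      isAlgSpace_of_isPullback Z.property.diag hU Y.property sq
    have hfe : IsEtaleMor (pullback.fst f.hom g.hom) :=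
      isEtaleMor_of_isPullback Y.property Z.property hU g.hom f.hom _ _ sq hge
    obtain ⟨w, hw1, hw2⟩ := exists_point_of_isPullback sq (Points.ofScheme U x) y (by
      rw [← Points.ofPt_eq_map_ofScheme]; exact hy.symm)
    obtain ⟨V, a, hae, has⟩ := hPb.atlas
    obtain ⟨v, rfl⟩ := surjective_ofPt a has w
    have hk' : RepWith @Etale (a ≫ pullback.fst f.hom g.hom) := hfe a hae
    obtain ⟨k, hk⟩ := (yon S).map_surjective (a ≫ pullback.fst f.hom g.hom)
    have hke : Etale k.left := (repWith_yon_map_iff _ k).1 (by rw [hk]; exact hk')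
    refine ⟨V, k, hke, ⟨v, ?_⟩, ?_⟩
    · have h1 : Points.ofPt ((yon S).map k) v = Points.ofScheme U x := by
        rw [hk, ← Points.map_ofPt]; exact hw1
      rw [ofPt_yon_map] at h1
      exact (Points.schemeEquiv U).injective h1
    · refine ⟨Y, ObjectProperty.homMk (a ≫ pullback.snd f.hom g.hom), g, hg, ?_⟩
      apply ObjectProperty.hom_ext
      show (a ≫ pullback.snd f.hom g.hom) ≫ g.hom = (yon S).map k ≫ f.hom
      rw [hk, Category.assoc, Category.assoc, sq.w]
  | top Z =>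
    intro U f x
    exact ⟨U, 𝟙 U, inferInstance, ⟨x, rfl⟩, trivial⟩
  | pullback Z R hR Z' h ih =>
    intro U f x
    obtain ⟨V, k, hk, hx, hRk⟩ := ih U (f ≫ h) x
    refine ⟨V, k, hk, hx, ?_⟩
    show R (((ofScheme S).map k ≫ f) ≫ h)
    rw [Category.assoc]
    exact hRk
  | transitive Z R' R hR' hR ih1 ih2 =>
    intro U f x
    obtain ⟨V₁, k₁, hk₁, ⟨v₁, rfl⟩, hR₁⟩ := ih1 U f x
    obtain ⟨V₂, k₂, hk₂, ⟨v₂, rfl⟩, hR₂⟩ := ih2 hR₁ V₁ (𝟙 _) v₁
    refine ⟨V₂, k₂ ≫ k₁, ?_, ⟨v₂, by simp⟩, ?_⟩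
    · rw [Over.comp_left]; infer_instance
    · have : R (((ofScheme S).map k₂ ≫ 𝟙 _) ≫ (ofScheme S).map k₁ ≫ f) := hR₂
      simpa using this


/-- **S10512.** -/
theorem isCocontinuous {X Y : Space S} (f : Y ⟶ X) :
    (EtOver.toEtSpOver Y ⋙ ObjectProperty.ι (fun E : Over Y => IsEtaleMor E.hom.hom) ⋙
        Over.map f).IsCocontinuous (etTop Y.obj) (spacesTopOver IsEtaleMor X) := by
  refine ⟨fun {E R} hR => ?_⟩
  rw [GrothendieckTopology.mem_over_iff] at hR
  have hsat : (spacesPre S IsEtaleMor).Saturate _ _ := hR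
  have href := exists_etale_refinement hsat E.obj.left (𝟙 _)
  choose V k hk hx hRk using href
  -- the covering family of the small site
  let E' : ↥E.obj.left.left → EtOver Y.obj := fun x =>
    EtOver.mk ((yon S).map (k x) ≫ E.obj.hom)
      ((RepWith @Etale).comp_mem _ _ ((repWith_yon_map_iff _ (k x)).2 (hk x)) E.property)
  let g : ∀ x, E' x ⟶ E := fun x => EtOver.homMk (k x) rfl
  have hcov : Sieve.ofArrows E' g ∈ etTop Y.obj E :=
    ofArrows_mem_etTop E' g (fun x => ⟨x, hx x⟩)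
  refine (etTop Y.obj).superset_covering ?_ hcov
  intro W m hm
  obtain ⟨x, h, rfl⟩ := (Sieve.mem_ofArrows_iff E' g m).1 hm
  refine Sieve.downward_closed _ ?_ h
  show R ((EtOver.toEtSpOver Y ⋙ ObjectProperty.ι (fun E : Over Y => IsEtaleMor E.hom.hom) ⋙
    Over.map f).map (g x))
  let m₂ : Over.mk (((ofScheme S).map (k x) ≫ 𝟙 _) ≫
      ((EtOver.toEtSpOver Y ⋙ ObjectProperty.ι (fun E : Over Y => IsEtaleMor E.hom.hom) ⋙
        Over.map f).obj E).hom) ⟶
      (EtOver.toEtSpOver Y ⋙ ObjectProperty.ι (fun E : Over Y => IsEtaleMor E.hom.hom) ⋙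
        Over.map f).obj E := Over.homMk ((ofScheme S).map (k x) ≫ 𝟙 _) rfl
  have h1 : R m₂ := (Sieve.overEquiv_iff R ((ofScheme S).map (k x) ≫ 𝟙 _)).1 (hRk x)
  have hw : 𝟙 _ ≫ (Over.mk (((ofScheme S).map (k x) ≫ 𝟙 _) ≫
      ((EtOver.toEtSpOver Y ⋙ ObjectProperty.ι (fun E : Over Y => IsEtaleMor E.hom.hom) ⋙
        Over.map f).obj E).hom)).hom =
      ((EtOver.toEtSpOver Y ⋙ ObjectProperty.ι (fun E : Over Y => IsEtaleMor E.hom.hom) ⋙
        Over.map f).obj (E' x)).hom := by
    apply ObjectProperty.hom_ext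
    simp [E', EtOver.toEtSpOver]
    rfl
  let m₁ : (EtOver.toEtSpOver Y ⋙ ObjectProperty.ι (fun E : Over Y => IsEtaleMor E.hom.hom) ⋙
        Over.map f).obj (E' x) ⟶ Over.mk (((ofScheme S).map (k x) ≫ 𝟙 _) ≫
      ((EtOver.toEtSpOver Y ⋙ ObjectProperty.ι (fun E : Over Y => IsEtaleMor E.hom.hom) ⋙
        Over.map f).obj E).hom) := Over.homMk (𝟙 _) hw
  have key : (EtOver.toEtSpOver Y ⋙ ObjectProperty.ι (fun E : Over Y => IsEtaleMor E.hom.hom) ⋙
      Over.map f).map (g x) = m₁ ≫ m₂ := by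
    apply Over.OverMorphism.ext
    simp [g, m₁, m₂, EtOver.toEtSpOver]
  rw [key]
  exact R.downward_closed h1 m₁

end Groth.Agent.Helper19.EtSite
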