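import Mathlib
import Groth.Prelude
import Groth.Agent.Lib.Helper15.AlgSpTop

/-!
# The small etale site of an algebraic space inside the big etale site of spaces: continuity (helper19)
-/

set_option autoImplicit false
set_option backward.isDefEq.respectTransparency false

universe u

open CategoryTheory CategoryTheory.Limits AlgebraicGeometry Opposite

namespace Groth.Agent.Helper19.EtSite

open AlgSp Groth.Agent.Helper15

variable {S : Scheme.{u}}

/-- The functor of the statement. -/
noncomputable abbrev incl {X Y : Space S} (f : Y ⟶ X) : EtOver Y.obj ⥤ Over X :=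
  AlgSp.EtOver.toEtSpOver Y ⋙ ObjectProperty.ι (fun E : Over Y => AlgSp.IsEtaleMor E.hom.hom) ⋙
    Over.map f

theorem incl_map_left_hom {X Y : Space S} (f : Y ⟶ X) {E E' : EtOver Y.obj} (g : E ⟶ E') :
    ((incl f).map g).left.hom = (yon S).map g.hom.left := rfl

/-- The inclusion takes fibre products of the small etale site to pullback squares. -/
theorem isPullback_incl_map_pullback {X Y : Space S} (f : Y ⟶ X) {E₁ E₂ E₀ : EtOver Y.obj}
    (g₁ : E₁ ⟶ E₀) (g₂ : E₂ ⟶ E₀) :
    IsPullback ((incl f).map (EtOver.pullbackFst g₁ g₂)) ((incl f).map (EtOver.pullbackSnd g₁ g₂))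
      ((incl f).map g₁) ((incl f).map g₂) := by
  have σ : IsPullback ((yon S).map (EtOver.pullbackFst g₁ g₂).hom.left)
      ((yon S).map (EtOver.pullbackSnd g₁ g₂).hom.left)
      ((yon S).map g₁.hom.left) ((yon S).map g₂.hom.left) :=
    ((EtOver.isPullback g₁ g₂).map (EtOver.forget Y.obj)).map (yon S)
  have comm : (incl f).map (EtOver.pullbackFst g₁ g₂) ≫ (incl f).map g₁ =
      (incl f).map (EtOver.pullbackSnd g₁ g₂) ≫ (incl f).map g₂ := by
    rw [← Functor.map_comp, ← Functor.map_comp, EtOver.pullback_condition]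
  have comm' : ((incl f).map (EtOver.pullbackFst g₁ g₂)).left ≫ ((incl f).map g₁).left =
      ((incl f).map (EtOver.pullbackSnd g₁ g₂)).left ≫ ((incl f).map g₂).left :=
    congrArg (fun k => k.left) comm
  have T' : IsPullback ((incl f).map (EtOver.pullbackFst g₁ g₂)).left
      ((incl f).map (EtOver.pullbackSnd g₁ g₂)).left
      ((incl f).map g₁).left ((incl f).map g₂).left :=
    IsPullback.of_map (ObjectProperty.ι _) comm' σ
  exact IsPullback.of_map (Over.forget X) comm T'

instance preservesLimit_cospan_incl {X Y : Space S} (f : Y ⟶ X) {E₁ E₂ E₀ : EtOver Y.obj}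
    (g₁ : E₁ ⟶ E₀) (g₂ : E₂ ⟶ E₀) : PreservesLimit (cospan g₁ g₂) (incl f) :=
  preservesLimit_of_preserves_limit_cone (EtOver.pullbackIsLimit g₁ g₂)
    ((isLimitMapConePullbackConeEquiv _ _).symm (isPullback_incl_map_pullback f g₁ g₂).isLimit)

/-- The images of an etale covering of the small etale site form a covering of the big etale site. -/
theorem generate_map_mem {X Y : Space S} (f : Y ⟶ X) {E : EtOver Y.obj} (R : Presieve E)
    (hR : R ∈ etPre Y.obj E) :
    Sieve.generate (R.map (incl f)) ∈ spacesTopOver IsEtaleMor X ((incl f).obj E) := by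
  obtain ⟨ι, Z, g, rfl⟩ := R.exists_eq_ofArrows
  rw [ofArrows_mem_etPre_iff] at hR
  rw [GrothendieckTopology.mem_over_iff]
  let R₀ : Presieve ((incl f).obj E).left :=
    Presieve.ofArrows (fun i => ((incl f).obj (Z i)).left) (fun i => ((incl f).map (g i)).left)
  have hR₀ : R₀ ∈ spacesPre S IsEtaleMor ((incl f).obj E).left := by
    rw [mem_spacesPre_iff]
    constructor
    · rintro W k ⟨i⟩
      have h1 : RepWith @Etale ((yon S).map (g i).hom.left) :=
        (repWith_yon_map_iff _ _).2 (EtOver.etale_left (g i))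
      exact isEtaleMor_of_repWith _ h1
    · intro x
      obtain ⟨x₀, rfl⟩ := (Points.schemeEquiv E.obj.left).surjective x
      obtain ⟨i, y, hy⟩ := hR x₀
      refine ⟨_, _, ⟨i⟩, Points.ofScheme (Z i).obj.left y, ?_⟩
      have h2 : Points.map ((yon S).map (g i).hom.left) (Points.ofScheme (Z i).obj.left y) =
          Points.ofScheme E.obj.left ((g i).hom.left.left y) := by
        rw [← Points.ofPt_eq_map_ofScheme, ofPt_yon_map]
      rw [hy] at h2
      exact h2
  refine (spacesTop S IsEtaleMor).superset_covering ?_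
    (Precoverage.generate_mem_toGrothendieck hR₀)
  rintro W k ⟨W', a, b, ⟨i⟩, rfl⟩
  rw [Sieve.overEquiv_iff]
  refine ⟨(incl f).obj (Z i), Over.homMk a (by
    show a ≫ ((incl f).obj (Z i)).hom = (a ≫ ((incl f).map (g i)).left) ≫ ((incl f).obj E).hom
    rw [Category.assoc, Over.w]), (incl f).map (g i), ?_, ?_⟩
  · rw [Presieve.map_ofArrows]
    exact ⟨i⟩
  · apply Over.OverMorphism.ext
    simp

/-- The inclusion of the small etale site into the big etale site of spaces is continuous. -/
theorem isContinuous {X Y : Space S} (f : Y ⟶ X) :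
    (incl f).IsContinuous (etTop Y.obj) (spacesTopOver IsEtaleMor X) where
  op_comp_isSheaf_of_types G := by
    have hG : Presieve.IsSheaf (spacesTopOver IsEtaleMor X) G.obj :=
      (isSheaf_iff_isSheaf_of_type _ _).1 G.2
    unfold etTop
    rw [Precoverage.isSheaf_toGrothendieck_iff_of_isStableUnderBaseChange]
    intro E R hR
    have hpp : (incl f).PreservesPairwisePullbacks R :=
      ⟨fun _ _ g₁ g₂ _ _ => preservesLimit_cospan_incl f g₁ g₂⟩
    rw [Presieve.IsSheafFor.comp_iff_of_preservesPairwisePullbacks]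
    exact hG.isSheafFor _ (generate_map_mem f R hR)

end Groth.Agent.Helper19.EtSite
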